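import Cfsg.Agent.KFr.Key
import Cfsg.Agent.FGS.LowerFitting
import Cfsg.Agent.PLocal.UpperP
import Cfsg.Agent.Solv.HallPi

/-!
Khukhro's theorems for a solvable group `G` with a Frobenius group `F H` of operators,
`C_G(F) = 1`: cores, Fitting height and `p`-length of `C_G(H)`.
-/

set_option autoImplicit false

namespace Cfsg.Agent.KFr

open Subgroup Cfsg Cfsg.Agent.PLocal.Amb Cfsg.Agent.Solv.Ext Cfsg.Agent.NFP Cfsg.Agent.FGS.Camina
open scoped Pointwise IsMulCommutative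

universe u v

variable {A : Type v} [Group A] [Finite A] {F H : Subgroup A}

structure St (F H : Subgroup A) {G : Type u} [Group G] [MulDistribMulAction A G] (C : Subgroup G) :
    Prop where
  fh : FH F H
  top : F ⊔ H = ⊤
  fpf : Fpf F (⊤ : Subgroup G)
  sol : Group.IsSolvable G
  mem : ∀ g, g ∈ C ↔ ∀ a ∈ H, a • g = g

section

variable {G : Type u} [Group G] [Finite G] [MulDistribMulAction A G] {C : Subgroup G}

theorem St.quot (D : St F H C) {N : Subgroup G} [N.Normal] (hN : Inv A N) :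
    ∃ _ : MulDistribMulAction A (G ⧸ N), St F H (C.map (QuotientGroup.mk' N)) := by
  obtain ⟨_, e⟩ := exists_quotAction hN
  have := D.sol
  refine ⟨_, D.fh, D.top, (D.fpf.quot D.fh.nil hN le_top e).mono
    (map_top_of_surjective _ (QuotientGroup.mk'_surjective _)).ge, inferInstance, fun g => ⟨?_, ?_⟩⟩
  · rintro ⟨g, hg, rfl⟩ a ha
    exact (e a g).trans (by rw [(D.mem g).1 hg a ha]; rfl)
  · obtain ⟨g, rfl⟩ := QuotientGroup.mk_surjective g
    intro hg
    obtain ⟨c, h1, h2⟩ := D.fh.lift hN (D.fpf.mono le_top) g fun a ha => by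
      rw [← QuotientGroup.eq, ← e]; exact (hg a ha).symm
    exact ⟨c, (D.mem c).2 h1, (QuotientGroup.eq.2 h2).symm⟩

theorem St.cent (D : St F H C) {q : ℕ} [Fact q.Prime] {N T : Subgroup G} [N.Normal]
    [IsMulCommutative N] (hN : Inv A N) (hT : Inv A T) (hq : IsPGroup q T)
    (hc : (Nat.card N).Coprime q) {c : G} (h1 : c ∈ T) (h2 : c ∈ C) (h3 : c ∈ 𝐂[N ⊓ C]) :
    c ∈ 𝐂[N] := by
  obtain ⟨_, e1⟩ := exists_subAction hN
  obtain ⟨_, e2⟩ := exists_subAction hT
  let _ : MulDistribMulAction T N := MulDistribMulAction.compHom N (N.normalizerMonoidHom.comp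
    (inclusion (le_normalizer_of_normal : T ≤ 𝐍[N])))
  have e3 : ∀ (x : T) (m : N), ((x • m : N) : G) = x * m * (x : G)⁻¹ := fun _ _ => rfl
  have hf : ∀ y : T, (∀ f ∈ F, y⁻¹ * f • y ∈ (𝐂[N]).subgroupOf T) → y ∈ (𝐂[N]).subgroupOf T :=
    fun y h => D.fpf.mem (g := y) D.fh.nil (hN.centralizer.subgroup F) le_top trivial fun f hf => by
      rw [← e2]; exact h f hf
  have h4 : ∀ y : T, y ∈ (𝐂[N]).subgroupOf T ↔ ∀ m : N, y • m = m := fun y =>
    ⟨fun h m => Subtype.ext ((e3 y m).trans (mul_inv_eq_iff_eq_mul.2 (h m m.2).symm)), fun h m hm =>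
      (mul_inv_eq_iff_eq_mul.1 (congrArg Subtype.val (h ⟨m, hm⟩))).symm⟩
  exact (h4 ⟨c, h1⟩).2 (Cf.key (q := q) (F := F) (H := H)
    { fh := D.fh, top := D.top, pq := hq, co := hc
      hs := fun a x m => Subtype.ext (by simp [e1, e2, e3, smul_mul', smul_inv'])
      fM := fun y _ h => Subtype.ext (D.fpf y trivial fun f hf => by rw [← e1, h f hf])
      fQ := fun x hx => (h4 x).1 (hf x fun f h => (h4 _).2 fun m => by
        rw [mul_smul, hx f h, inv_smul_smul])
      cH := fun a ha => Subtype.ext ((e2 _ _).trans ((D.mem c).1 h2 a ha))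
      cM := fun m hm => Subtype.ext (by
        rw [e3, ← h3 m ⟨m.2, (D.mem m).2 fun a ha => by rw [← e1, hm a ha]⟩,
          mul_inv_cancel_right]) })

omit [Finite A] [Finite G] in
theorem map_norm {G' : Type*} [Group G'] {K : Subgroup G} (h : C ≤ 𝐍[K]) (f : G →* G') :
    C.map f ≤ 𝐍[K.map f] := (map_mono h).trans (le_normalizer_map f)

end

theorem St.core (q : ℕ) [Fact q.Prime] (G : Type u) [Group G] [Finite G] :
    ∀ (_ : MulDistribMulAction A G) (C K : Subgroup G), St F H C → K ≤ C → C ≤ 𝐍[K] →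
      IsPGroup q K → K ≤ pCore q G := by
  refine Grp.card_induction (P := fun G _ _ => ∀ (_ : MulDistribMulAction A G) (C K : Subgroup G),
    St F H C → K ≤ C → C ≤ 𝐍[K] → IsPGroup q K → K ≤ pCore q G) ?_ G
  intro G _ _ ih _ C K D h1 h2 h3
  rcases subsingleton_or_nontrivial G with _ | _
  · exact (Subsingleton.elim _ _).le
  have := D.sol
  have := D.fh.normal
  obtain ⟨r, hr, h4⟩ := Grp.exists_pCore_ne_bot G
  have := Fact.mk hr
  have hO := Grp.pCore_isPGroup r G
  set N := omegaZ (pCore r G) r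
  have hN : Inv A N := inv_omegaZ (inv_of_characteristic _) r
  have hNr : IsPGroup r N := hO.to_le fun x hx => hx.1
  obtain ⟨_, D'⟩ := D.quot hN
  have h5 := ih _ (Grp.card_quotient_lt _ (omegaZ_ne_bot hO.isNilpotent hr
    (Solv.NA.dvd_card_of_ne_bot hO h4))) _ _ _ D' (map_mono h1) (map_norm h2 _) (h3.map _)
  rw [map_le_iff_le_comap] at h5
  set Y := (pCore q (G ⧸ N)).comap (QuotientGroup.mk' N)
  by_cases hqr : r = q
  · subst hqr
    exact h5.trans (Grp.le_pCore inferInstance ((Grp.pCore_isPGroup r _).comap_of_ker_isPGroup _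
      (by rwa [QuotientGroup.ker_mk'])))
  obtain ⟨T, hT, hI⟩ := (D.fpf.mono le_top).exists_syl D.fh.nil
    (hN.comap_mk'_of_characteristic (pCore q (G ⧸ N))) q
  have dis : ∀ {P : Subgroup G}, IsPGroup q P → ∀ x ∈ P, x ∈ N → x = 1 := fun hP x h h' =>
    mem_bot.1 ((IsPGroup.disjoint_of_ne q r (Ne.symm hqr) _ _ hP hNr).le_bot ⟨h, h'⟩)
  have dec : ∀ y ∈ Y, ∃ t ∈ T, t⁻¹ * y ∈ N := fun y hy => by
    obtain ⟨t, ht, e⟩ := (hT.map (QuotientGroup.mk' N)).max _
      ((Grp.pCore_isPGroup q _).to_le (map_comap_le _ _)) (map_mono hT.le) le_rfl ⟨y, hy, rfl⟩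
    exact ⟨t, ht, QuotientGroup.eq.1 e⟩
  have h6 : K ≤ T := fun c hc => by
    obtain ⟨t, ht, e⟩ := dec c (h5 hc)
    have h6 : t ∈ C := (D.mem t).2 fun a ha => (inv_mul_eq_one.1 (dis hT.pgrp _
      (mul_mem (inv_mem ht) (hI a t ht)) (by
        have := mul_mem e (inv_mem (hN a _ e))
        rwa [smul_mul', (D.mem c).1 (h1 hc) a ha, smul_inv', mul_inv_rev, inv_inv, mul_assoc,
          mul_inv_cancel_left] at this))).symm
    rw [← inv_mul_eq_one.1 (dis (isPGroup_sup (hT.pgrp.to_le (inf_le_left : T ⊓ C ≤ T)) h3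
      (inf_le_right.trans h2)) _ (mul_mem_sup (inv_mem ⟨ht, h6⟩) hc) e)]
    exact ht
  have hco : (Nat.card N).Coprime q := by
    obtain ⟨k, hk⟩ := hNr.exists_card_eq
    rw [hk]; exact ((Nat.coprime_primes hr Fact.out).2 hqr).pow_left k
  have h7 : K ≤ 𝐂[N] := fun c hc => D.cent hN hI hT.pgrp hco (h6 hc) (h1 hc) fun m hm => by
    refine mul_inv_eq_iff_eq_mul.1 (mul_inv_eq_one.1 (dis h3 _
      (mul_mem ((mem_normalizer_iff.1 (h2 hm.2) c).1 hc) (inv_mem hc)) ?_))
    rw [mul_assoc, mul_assoc, ← mul_assoc c]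
    exact mul_mem hm.1 (Normal.conj_mem inferInstance _ (inv_mem hm.1) c)
  have h8 := hT.inf (N := 𝐂[N]) le_normalizer_of_normal
  refine (le_inf h6 h7).trans ((h8.eq_pCoreOf fun y hy => ?_).ge.trans
    ((pCoreOf_mono_of_normal le_top le_normalizer_of_normal).trans (pCoreOf_top q).le))
  obtain ⟨t, ht, e⟩ := dec y hy.1
  rw [← mul_inv_cancel_left t y]
  refine mul_mem (le_normalizer ⟨ht, ?_⟩) (centralizer_le_normalizer _ fun x hx => (hx.2 _ e).symm)
  have := (𝐂[N]).mul_mem hy.2 ((𝐂[N]).inv_mem (x := t⁻¹ * y) fun x hx => setLike_mul_comm hx e)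
  rwa [mul_inv_rev, mul_inv_cancel_left, inv_inv] at this

theorem St.pi (π : Set ℕ) (G : Type u) [Group G] [Finite G] :
    ∀ (_ : MulDistribMulAction A G) (C K : Subgroup G), St F H C → K ≤ C → C ≤ 𝐍[K] →
      (∀ p : ℕ, p.Prime → p ∣ Nat.card K → p ∈ π) → K ≤ piCore π G := by
  refine Grp.card_induction (P := fun G _ _ => ∀ (_ : MulDistribMulAction A G) (C K : Subgroup G),
    St F H C → K ≤ C → C ≤ 𝐍[K] → (∀ p : ℕ, p.Prime → p ∣ Nat.card K → p ∈ π) →
      K ≤ piCore π G) ?_ G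
  intro G _ _ ih _ C K D h1 h2 h3
  by_cases h0 : K = ⊥
  · simp [h0]
  have := D.sol
  have := (nontrivial_iff_ne_bot K).2 h0
  obtain ⟨q, hq, h4⟩ := Grp.exists_pCore_ne_bot K
  have := Fact.mk hq
  have h5 := St.core q G _ C _ D ((pCoreOf_le q K).trans h1)
    (h2.trans (normalizer_le_normalizer_pCoreOf q K)) (isPGroup_pCoreOf q K)
  have h6 : q ∈ π := h3 q hq ((Solv.NA.dvd_card_of_ne_bot (Grp.pCore_isPGroup q K) h4).trans
    (card_subgroup_dvd_card _))
  obtain ⟨_, D'⟩ := D.quot (inv_of_characteristic (pCore q G))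
  have h7 := ih _ (Grp.card_quotient_lt _ fun e => h4 (pCoreOf_eq_bot_iff.1 (le_bot_iff.1 (e ▸ h5))))
    _ _ _ D' (map_mono h1) (map_norm h2 _) (Solv.Pi.pi_of_dvd (card_map_dvd _ _) h3)
  refine (map_le_iff_le_comap.1 h7).trans (Solv.Pi.le_piCore inferInstance fun p hp hd => ?_)
  rw [← Grp.card_map_mk'_mul_of_le _ (QuotientGroup.le_comap_mk' _ _),
    map_comap_eq_self_of_surjective (QuotientGroup.mk'_surjective _)] at hd
  rcases (Nat.Prime.dvd_mul hp).1 hd with h | h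
  · exact Solv.Pi.pi_card_piCore π p hp h
  · obtain ⟨k, hk⟩ := (Grp.pCore_isPGroup q G).exists_card_eq
    rw [hk] at h
    rwa [(Nat.prime_dvd_prime_iff_eq hp hq).1 (hp.dvd_of_dvd_pow h)]

variable {G : Type u} [Group G] [Finite G] [MulDistribMulAction A G] {C : Subgroup G}

theorem St.pcore (D : St F H C) (π : Set ℕ) : piCore π C = (piCore π G).subgroupOf C :=
  le_antisymm (map_le_iff_le_comap.1 (St.pi π G _ C _ D (map_subtype_le _)
    (le_normalizer_map_subtype _) (Solv.Pi.pi_of_dvd (card_map_dvd _ _) (Solv.Pi.pi_card_piCore π))))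
    (Solv.Pi.le_piCore inferInstance (Solv.Pi.pi_of_dvd (card_comap_dvd_of_injective _ _
      C.subtype_injective) (Solv.Pi.pi_card_piCore π)))

theorem St.fit (D : St F H C) : fittingSubgroup C = (fittingSubgroup G).subgroupOf C := by
  refine le_antisymm ?_ (Grp.fitting_subgroupOf_le C)
  rw [Grp.fitting_eq_iSup_pCore C]
  refine iSup_le fun p => ?_
  have := Fact.mk p.2
  exact map_le_iff_le_comap.1 ((St.core p G _ C _ D (pCoreOf_le p C) (le_normalizer_pCoreOf p C)
    (isPGroup_pCoreOf p C)).trans (Grp.pCore_le_fitting p))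

theorem St.eq_top (D : St F H C) {U : Subgroup G} (hU : Inv A U) (h : C ≤ U) : U = ⊤ :=
  top_le_iff.1 (D.fh.le_of_fix hU inv_top D.fpf fun c _ hc => h ((D.mem c).2 hc))

theorem St.height (n : ℕ) : ∀ (G : Type u) [Group G] [Finite G] [MulDistribMulAction A G]
    (C : Subgroup G), St F H C → FGS.lowerFit C n = ⊥ → FGS.lowerFit (⊤ : Subgroup G) n = ⊥ := by
  induction n with
  | zero => exact fun G _ _ _ C D h => (D.eq_top inv_bot h.le).symm
  | succ n ih =>
  intro G _ _ _ C D h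
  have h1 : FGS.lowerFit C n ≤ fittingSubgroup G :=
    (Grp.le_map_fitting (FGS.lowerFit_le C n) (FGS.le_normalizer_lowerFit C n)
      (FGS.nilRes_eq_bot_iff.1 h)).trans (map_le_iff_le_comap.2 D.fit.le)
  obtain ⟨_, D'⟩ := D.quot (inv_of_characteristic (fittingSubgroup G))
  have h2 := ih _ _ D' (by
    rwa [← FGS.map_lowerFit, Subgroup.map_eq_bot_iff, QuotientGroup.ker_mk'])
  rw [← map_top_of_surjective _ (QuotientGroup.mk'_surjective _), ← FGS.map_lowerFit,
    Subgroup.map_eq_bot_iff, QuotientGroup.ker_mk'] at h2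
  exact FGS.nilRes_eq_bot_iff.2 (Grp.isNilpotent_of_le_fitting h2)

theorem St.upper (D : St F H C) (p : ℕ) [hp : Fact p.Prime] (n : ℕ) :
    Inv A (upperPSeries p G n).1 ∧
      (upperPSeries p C n).1 ≤ (upperPSeries p G n).1.subgroupOf C := by
  induction n with
  | zero => exact ⟨inv_bot, bot_le⟩
  | succ n ih =>
  obtain ⟨_, D'⟩ := D.quot ih.1
  have hn := map_norm (le_normalizer_map_subtype (upperPSeries p C (n + 1)).1)
    (QuotientGroup.mk' (upperPSeries p G n).1)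
  by_cases h : Even n
  · rw [PLocal.upperPSeries_succ_of_even h, PLocal.upperPSeries_succ_of_even h] at *
    refine ⟨ih.1.comap_mk'_of_characteristic _, map_le_iff_le_comap.1 (map_le_iff_le_comap.1
      ((St.pi {r | r ≠ p} _ _ _ _ D' (map_mono (map_subtype_le _)) hn fun r hr hd e => ?_).trans
        (Grp.le_pPrimeCore inferInstance (hp.out.coprime_iff_not_dvd.2 fun h =>
          Solv.Pi.pi_card_piCore {r | r ≠ p} p hp.out h rfl).symm)))⟩
    subst e
    rw [map_map, ← relIndex_ker] at hd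
    exact hr.one_lt.ne' (Nat.eq_one_of_dvd_coprimes (PLocal.relIndex_relPrimeCore_coprime _)
      (hd.trans (relIndex_dvd_of_le_left _ fun x hx => (QuotientGroup.eq_one_iff _).2 (ih.2 hx)))
      dvd_rfl)
  · rw [PLocal.upperPSeries_succ_of_not_even h, PLocal.upperPSeries_succ_of_not_even h] at *
    refine ⟨ih.1.comap_mk'_of_characteristic _, map_le_iff_le_comap.1 (map_le_iff_le_comap.1
      (St.core p _ _ _ _ D' (map_mono (map_subtype_le _)) hn ?_))⟩
    rintro ⟨_, _, ⟨x, hx, rfl⟩, rfl⟩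
    obtain ⟨k, hk⟩ := PLocal.le_relCore_iff.1 le_rfl x hx
    exact ⟨k, Subtype.ext ((QuotientGroup.eq_one_iff _).2 (ih.2 hk))⟩

theorem St.plen (D : St F H C) (p : ℕ) [Fact p.Prime] (k : ℕ) :
    PLengthLE p k G ↔ PLengthLE p k C :=
  ⟨fun h => PLocal.PLengthLE.subgroup h C, fun h => D.eq_top (D.upper p _).1
    (subgroupOf_eq_top.1 (top_le_iff.1 (h.ge.trans (D.upper p _).2)))⟩

end Cfsg.Agent.KFr
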