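import Cfsg.Agent.KFr.Orb

/-!
Khukhro's key proposition: `F H` Frobenius, acting on `M Q` with `C(F) = 1`.  An element of
`C_Q(H)` that centralises `C_M(H)` centralises `M`.
-/

set_option autoImplicit false

namespace Cfsg.Agent.KFr

open Subgroup Cfsg Cfsg.Agent.PLocal.Amb Cfsg.Agent.Solv.Ext Cfsg.Agent.NFP
open scoped Pointwise IsMulCommutative

universe u v

structure Cf (q : ℕ) {A : Type v} [Group A] (F H : Subgroup A) (M : Type u) {Q : Type u}
    [CommGroup M] [Group Q] [MulDistribMulAction Q M] [MulDistribMulAction A M]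
    [MulDistribMulAction A Q] (c : Q) : Prop where
  fh : FH F H
  top : F ⊔ H = ⊤
  hs : ∀ (a : A) (x : Q) (m : M), a • x • m = (a • x) • a • m
  pq : IsPGroup q Q
  co : (Nat.card M).Coprime q
  fM : Fpf F (⊤ : Subgroup M)
  fQ : ∀ x : Q, (∀ f ∈ F, ∀ m : M, (f • x) • m = x • m) → ∀ m : M, x • m = m
  cH : ∀ a ∈ H, a • c = c
  cM : ∀ m : M, (∀ a ∈ H, a • m = m) → c • m = m

/-- the induction hypothesis -/
def IH (q n : ℕ) : Prop :=
  ∀ (A : Type v) [Group A] [Finite A] (F H : Subgroup A) (M Q : Type u) [CommGroup M] [Group Q]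
    [Finite M] [Finite Q] [MulDistribMulAction Q M] [MulDistribMulAction A M]
    [MulDistribMulAction A Q] (c : Q), Nat.card M < n → Cf q F H M c → ∀ m : M, c • m = m

variable {q : ℕ} {A : Type v} [Group A] [Finite A] {F H : Subgroup A} {M Q : Type u} [CommGroup M]
  [Group Q] [Finite M] [Finite Q] [MulDistribMulAction Q M] [MulDistribMulAction A M]
  [MulDistribMulAction A Q] {c : Q}

omit [Finite A] [Finite M] [Finite Q] in
theorem Cf.hs' (D : Cf q F H M c) (a : A) (x : Q) (m : M) : (a • x) • m = a • x • a⁻¹ • m := by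
  rw [D.hs, smul_inv_smul]

theorem Cf.quot (D : Cf q F H M c) (ih : IH.{u, v} q (Nat.card M)) (hQ : Fpf F (⊤ : Subgroup Q))
    {U : Subgroup M} (hA : Inv A U) (hU : Inv Q U) (h1 : U ≠ ⊥) (hc : ∀ m ∈ U, c • m = m) (m : M) :
    c • m = m := by
  obtain ⟨_, e1⟩ := exists_quotAction hA
  obtain ⟨_, e2⟩ := exists_quotAction hU
  have hs : ∀ (a : A) (x : Q) (m : M ⧸ U), a • x • m = (a • x) • a • m := fun a x m => by
    obtain ⟨m, rfl⟩ := QuotientGroup.mk_surjective m
    rw [e2, e1, e1, e2, D.hs]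
  have h2 := ih A F H (M ⧸ U) Q c (Grp.card_quotient_lt _ h1)
    { fh := D.fh, top := D.top, hs := hs, pq := D.pq, cH := D.cH
      co := D.co.coprime_dvd_left (card_quotient_dvd_card U)
      fM := (D.fM.quot D.fh.nil hA le_top e1).mono
        (map_top_of_surjective _ (QuotientGroup.mk'_surjective _)).ge
      fQ := fun x hx m => by
        have : x ∈ (MulDistribMulAction.toMulAut Q (M ⧸ U)).ker := hQ.mem D.fh.nil
          (fun g z hz => MulEquiv.ext fun m => by
            change ((g : A) • z) • m = m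
            rw [← smul_inv_smul (g : A) m, ← hs, show z • (g : A)⁻¹ • m = _ from
              MulEquiv.congr_fun (MonoidHom.mem_ker.1 hz) _]
            rfl) le_top trivial fun g hg => MulEquiv.ext fun m => by
            change (x⁻¹ * g • x) • m = m
            rw [mul_smul, hx g hg, inv_smul_smul]
        exact MulEquiv.congr_fun (MonoidHom.mem_ker.1 this) m
      cM := fun m hm => by
        obtain ⟨m, rfl⟩ := QuotientGroup.mk_surjective m
        obtain ⟨d, h3, h4⟩ := D.fh.lift hA (D.fM.mono le_top) m fun a ha => by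
          rw [← QuotientGroup.eq, ← e1]; exact (hm a ha).symm
        rw [QuotientGroup.eq.2 h4, e2, D.cM d h3] } m
  rw [e2, eq_comm, QuotientGroup.eq] at h2
  have h3 : ∀ k : ℕ, c ^ k • m = m * (m⁻¹ * c • m) ^ k := fun k => by
    induction k with
    | zero => simp
    | succ k ih => rw [pow_succ', mul_smul, ih, smul_mul', hc _ (pow_mem h2 k), pow_succ', ← mul_assoc,
      mul_inv_cancel_left]
  obtain ⟨e, he⟩ := D.pq c
  have h4 := h3 (q ^ e)
  rw [he, one_smul, eq_comm, mul_eq_left] at h4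
  exact (inv_mul_eq_one.1 (orderOf_eq_one_iff.1 (Nat.eq_one_of_dvd_coprimes (D.co.pow_right e)
    (orderOf_dvd_natCard _) (orderOf_dvd_of_pow_eq_one h4)))).symm

section Comp

variable [MulDistribMulAction A (center Q)]
  (e : ∀ (a : A) (z : center Q), ((a • z : center Q) : Q) = a • (z : Q))

omit [Finite A] [Finite M] [Finite Q] in
include e in
theorem Cf.hz (D : Cf q F H M c) (a : A) (x : center Q) (m : M) :
    a • x • m = (a • x) • a • m := by
  rw [Subgroup.smul_def, D.hs, ← e]; rfl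

omit [Finite M] [Finite Q] in
theorem z_comm (z : center Q) (y : Q) (m : M) : z • y • m = y • z • m := by
  rw [Subgroup.smul_def, Subgroup.smul_def, ← mul_smul, ← mul_smul, mem_center_iff.1 z.2]

omit [Finite A] [Finite M] in
include e in
theorem Cf.lift (D : Cf q F H M c) {K : Subgroup (center Q)} (hK : Mx M K) {m : M}
    (h1 : ∀ x ∈ K, x • m = m) (h2 : ∀ a ∈ H, a • K = K → a • m = m) : c • m = m := by
  have := Fintype.ofFinite (Subgroup (center Q))
  obtain ⟨w, h3, rfl, h4⟩ := hK.orbit (D.hz e) H h1 h2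
  exact div_eq_one.1 (Good.indep (fun x y m => z_comm x y m) Finset.univ
    (w := fun L => c • w L / w L) (fun L => (h3 L).imp (fun h => by simp [h]) fun h =>
      ⟨h.1, fun y hy => by rw [smul_div', z_comm, h.2 y hy]⟩)
    (by rw [Finset.prod_div_distrib, ← Finset.smul_prod', div_eq_one, D.cM _ h4]) K
    (Finset.mem_univ K))

include e in
theorem Cf.sub (D : Cf q F H M c) (ih : IH.{u, v} q (Nat.card M)) (hQ : Fpf F (⊤ : Subgroup Q))
    {K : Subgroup (center Q)} (hK : Mx M K) (h0 : FixedPoints.subgroup K M ≠ ⊤)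
    (h1 : ∀ a ∈ H, ∀ f ∈ F, a • K = f • K → a • K = K)
    (h2 : ∀ f ∈ F, f • K ≠ K → ∀ m : M, (∀ x ∈ f • K, x • m = m) → c • m = m) (m : M)
    (hm : ∀ x ∈ K, x • m = m) : c • m = m := by
  have := Fintype.ofFinite (Subgroup (center Q))
  have hn := D.fh.normal
  have := D.fh.nil
  set B := MulAction.stabilizer A K
  set W := FixedPoints.subgroup K M
  have mW : ∀ m, m ∈ W ↔ ∀ x ∈ K, x • m = m := fun m =>
    ⟨fun h x hx => h ⟨x, hx⟩, fun h x => h x x.2⟩
  let X : Subgroup Q := closure {y | ∃ f ∈ F, f • K = K ∧ y = f • c}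
  have hB : ∀ b ∈ B, ∃ f ∈ F, ∃ a ∈ H, f ∈ B ∧ a ∈ B ∧ b = f * a := fun b hb => by
    obtain ⟨f, hf, a, ha, rfl⟩ := mem_sup_of_normal_left.1 (D.top ▸ mem_top b)
    have h3 : a ∈ B := h1 a ha f⁻¹ (inv_mem hf) (by
      rw [eq_inv_smul_iff, ← mul_smul]; exact hb)
    exact ⟨f, hf, a, ha, by simpa using mul_mem hb (inv_mem h3), h3, rfl⟩
  have i1 : Inv B W := fun b m hm =>
    (mW _).2 fun y hy => fix_smul (D.hz e) ((mW _).1 hm) (b : A) y (b.2.symm ▸ hy)
  have i2 : Inv X W := fun y m hm => (mW _).2 fun x hx => by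
    rw [Subgroup.smul_def y, z_comm, (mW _).1 hm x hx]
  have i3 : Inv B X := inv_closure (by
    rintro ⟨b, hb⟩ _ ⟨g, hg, h3, rfl⟩
    obtain ⟨f, hf, a, ha, h4, h5, rfl⟩ := hB b hb
    refine ⟨f * (a * g * a⁻¹), mul_mem hf (hn.conj_mem g hg a),
      mul_mem h4 (mul_mem (mul_mem h5 h3) (inv_mem h5)), ?_⟩
    change (f * a) • g • c = _
    rw [mul_smul, mul_smul, mul_smul, D.cH _ (inv_mem ha), mul_smul])
  have h3 : ∀ x ∈ X, ∀ f ∈ F, f • K ≠ K → ∀ m : M, (∀ x ∈ f • K, x • m = m) → x • m = m := by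
    intro x hx
    induction hx using closure_induction with
    | mem x hx =>
      obtain ⟨g, hg, h3, rfl⟩ := hx
      intro f hf h4 m hm
      rw [D.hs', h2 (g⁻¹ * f) (mul_mem (inv_mem hg) hf)
        (by rwa [mul_smul, Ne, inv_smul_eq_iff, h3]) _
        (by rw [mul_smul]; exact fix_smul (D.hz e) hm _), smul_inv_smul]
    | one => exact fun _ _ _ _ _ => one_smul _ _
    | mul x y _ _ hx hy => exact fun f hf h m hm => by rw [mul_smul, hy f hf h m hm, hx f hf h m hm]
    | inv x _ hx => exact fun f hf h m hm => inv_smul_eq_iff.2 (hx f hf h m hm).symm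
  obtain ⟨_, e1⟩ := exists_subAction i1
  obtain ⟨_, e2⟩ := exists_subAction i2
  obtain ⟨_, e3⟩ := exists_subAction i3
  have := ih B (F.subgroupOf B) (H.subgroupOf B) W X
    ⟨c, subset_closure ⟨1, one_mem _, one_smul _ _, (one_smul _ _).symm⟩⟩
    (Grp.card_lt_of_ne_top h0)
    { fh := ⟨inferInstance, Grp.isNilpotent_comap_of_injective F _ B.subtype_injective,
        fun a ha h1 f hf h2 => Subtype.ext (D.fh.fpf a ha (fun e => h1 (Subtype.ext e)) f hf
          (congrArg Subtype.val h2))⟩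
      top := eq_top_iff.2 fun b _ => by
        obtain ⟨f, hf, a, ha, h4, h5, h6⟩ := hB b b.2
        rw [show b = ⟨f, h4⟩ * ⟨a, h5⟩ from Subtype.ext h6]
        exact mul_mem_sup hf ha
      hs := fun a x m => Subtype.ext (by
        rw [e1, e2, e2, e1, Subgroup.smul_def (a • x), e3]; exact D.hs _ _ _)
      pq := D.pq.to_subgroup X
      co := D.co.coprime_dvd_left (card_subgroup_dvd_card W)
      fM := fun m _ h4 => by
        obtain ⟨w, h5, h6, h7⟩ := hK.orbit (D.hz e) F ((mW _).1 m.2)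
          fun b hb h5 => (e1 ⟨b, h5⟩ m).symm.trans (congrArg Subtype.val (h4 ⟨b, h5⟩ hb))
        exact Subtype.ext (h6 ▸ Good.indep (fun x y m => z_comm x y m) _ h5 (D.fM _ trivial h7) K
          (Finset.mem_univ K))
      fQ := fun x hx m => Subtype.ext ((e2 x m).trans (glue D.fh.nil D.hs hQ
        (fun (L : Subgroup (center Q)) m => ∀ x ∈ L, x • m = m)
        (fun a L m h => fix_smul (D.hz e) h a)
        (fun y L m h x hx => by rw [z_comm, h x hx]) K x (h3 x x.2) (fun f hf h4 m hm => by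
          have := congrArg Subtype.val (hx ⟨f, h4⟩ hf ⟨m, (mW _).2 hm⟩)
          rwa [e2, e2, Subgroup.smul_def, e3] at this) m ((mW _).1 m.2)))
      cH := fun a ha => Subtype.ext ((e3 _ _).trans (D.cH a ha))
      cM := fun m hm => Subtype.ext ((e2 _ _).trans (D.lift e hK ((mW _).1 m.2) fun a ha h4 =>
        (e1 ⟨a, h4⟩ m).symm.trans (congrArg Subtype.val (hm ⟨a, h4⟩ ha)))) } ⟨m, (mW _).2 hm⟩
  exact (e2 _ _).symm.trans (congrArg Subtype.val this)

include e in
theorem Cf.comp (D : Cf q F H M c) (ih : IH.{u, v} q (Nat.card M)) [Nontrivial M]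
    [Nontrivial (center Q)] (hfa : ∀ x : Q, (∀ m : M, x • m = m) → x = 1) (hH : H ≠ ⊥)
    {K : Subgroup (center Q)} (hK : Mx M K) (m : M) (hm : ∀ x ∈ K, x • m = m) : c • m = m := by
  have hQ : Fpf F (⊤ : Subgroup Q) := fun x _ h => hfa x (D.fQ x fun f hf m => by rw [h f hf])
  by_contra h0
  obtain ⟨f₀, hf₀, h1, h2⟩ := orbit D.fh K
  have h3 : ∀ f ∈ F, f • K ≠ f₀ • K → ∀ m : M, (∀ x ∈ f • K, x • m = m) → c • m = m :=
    fun f hf h m hm => D.lift e (hK.smul (D.hz e) f) hm fun a ha h3 => by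
      by_cases a1 : a = 1
      · rw [a1, one_smul]
      · exact absurd (h2 f hf a ha a1 h3) h
  have h4 : f₀ • K = K := by
    by_contra h4
    exact h0 (h3 1 (one_mem _) (by rw [one_smul]; exact Ne.symm h4) m (by rwa [one_smul]))
  rw [h4] at h1 h3
  refine h0 (D.sub e ih hQ hK (fun h5 => ?_) h1 h3 m hm)
  have h6 : ∀ x ∈ K, ∀ m : M, x • m = m := fun x hx m =>
    (h5 ▸ mem_top m : m ∈ FixedPoints.subgroup K M) ⟨x, hx⟩
  exact not_cyclic D.fh hH (Z := center Q)
    (fun y _ h => Subtype.ext (hQ y trivial fun f hf => by rw [← e, h f hf]))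
    (cyclic_of_semireg (M := M) mul_comm fun z m h1 h2 =>
      Subtype.ext (hfa z (h6 z (hK.2 m h1 (fun x hx => h6 x hx m) z h2))))

end Comp

theorem Cf.step [Fact q.Prime] (D : Cf q F H M c) (ih : IH.{u, v} q (Nat.card M))
    (hfa : ∀ x : Q, (∀ m : M, x • m = m) → x = 1) (m : M) : c • m = m := by
  by_cases hH : H = ⊥
  · exact D.cM m fun a ha => by rw [hH, mem_bot] at ha; rw [ha, one_smul]
  rcases subsingleton_or_nontrivial M with _ | _
  · exact Subsingleton.elim _ _
  rcases subsingleton_or_nontrivial Q with _ | _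
  · rw [Subsingleton.elim c 1, one_smul]
  have := D.pq.center_nontrivial
  obtain ⟨_, e⟩ := exists_subAction (A := A) (inv_of_characteristic (center Q))
  obtain ⟨K, hK⟩ := exists_mx (M := M) (Q := center Q)
  obtain ⟨m₀, h1, h2⟩ := hK.1
  refine D.quot ih (fun x _ h => hfa x (D.fQ x fun f hf m => by rw [h f hf]))
    (U := closure {m | ∃ K : Subgroup (center Q), Mx M K ∧ ∀ x ∈ K, x • m = m})
    (inv_closure ?_) (inv_closure ?_)
    (fun h => h1 (mem_bot.1 (h ▸ subset_closure ⟨K, hK, h2⟩))) (fun m hm => ?_) m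
  · rintro a m ⟨K, hK, hm⟩
    exact ⟨a • K, hK.smul (D.hz e) a, fix_smul (D.hz e) hm a⟩
  · rintro y m ⟨K, hK, hm⟩
    exact ⟨K, hK, fun x hx => by rw [z_comm, hm x hx]⟩
  · induction hm using closure_induction with
    | mem m hm => obtain ⟨K, hK, hm⟩ := hm; exact D.comp e ih hfa hH hK m hm
    | one => exact smul_one _
    | mul x y _ _ hx hy => rw [smul_mul', hx, hy]
    | inv x _ hx => rw [smul_inv', hx]

theorem ih_all [Fact q.Prime] (n : ℕ) : IH.{u, v} q n := by
  induction n using Nat.strong_induction_on with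
  | _ n ih =>
  intro A _ _ F H M Q _ _ _ _ _ _ _ c hn D m
  set N := (MulDistribMulAction.toMulAut Q M).ker
  have mN : ∀ x, x ∈ N ↔ ∀ m : M, x • m = m := fun x =>
    ⟨fun h m => MulEquiv.congr_fun (MonoidHom.mem_ker.1 h) m, fun h => MulEquiv.ext h⟩
  obtain ⟨_, e1⟩ := exists_quotAction (A := A) (N := N) fun a x hx => (mN _).2 fun m => by
    rw [D.hs', (mN _).1 hx, smul_inv_smul]
  let _ : MulDistribMulAction (Q ⧸ N) M := MulDistribMulAction.compHom M (QuotientGroup.kerLift _)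
  have e2 : ∀ (x : Q) (m : M), (x : Q ⧸ N) • m = x • m := fun _ _ => rfl
  rw [← e2]
  refine Cf.step (q := q) (F := F) (H := H)
    { fh := D.fh, top := D.top, co := D.co, fM := D.fM, pq := D.pq.to_quotient N
      hs := fun a x m => ?_, fQ := fun x hx m => ?_
      cH := fun a ha => by rw [e1, D.cH a ha]
      cM := fun m hm => by rw [e2, D.cM m hm] } (ih _ hn) (fun x hx => ?_) m
  all_goals obtain ⟨x, rfl⟩ := QuotientGroup.mk_surjective x
  · rw [e1, e2, e2, D.hs]
  · exact D.fQ x (fun f hf m => by rw [← e2, ← e1, hx f hf, e2]) m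
  · exact (QuotientGroup.eq_one_iff x).2 ((mN _).2 hx)

theorem Cf.key [Fact q.Prime] (D : Cf q F H M c) (m : M) : c • m = m :=
  ih_all _ A F H M Q c (Nat.lt_succ_self _) D m

end Cfsg.Agent.KFr
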