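import Cfsg.Agent.NFP.Gen
import Cfsg.Agent.Solv.FrobeniusAction

/-!
Frobenius groups `F H` of operators: orbits of `F` and fixed points of `H`, gluing.
-/

set_option autoImplicit false

namespace Cfsg.Agent.KFr

open Subgroup Cfsg Cfsg.Agent.PLocal.Amb Cfsg.Agent.Solv.Ext Cfsg.Agent.NFP
open scoped Pointwise IsMulCommutative

universe u v

variable {A : Type v} [Group A] [Finite A] {F H : Subgroup A}

omit [Finite A] in
theorem comm_inj (h : FH F H) {a : A} (ha : a ∈ H) (h1 : a ≠ 1) {x y : A} (hx : x ∈ F) (hy : y ∈ F)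
    (e : x⁻¹ * (a * x * a⁻¹) = y⁻¹ * (a * y * a⁻¹)) : x = y := by
  refine (mul_inv_eq_one.1 (h.fpf a ha h1 _ (mul_mem hy (inv_mem hx)) ?_)).symm
  calc a * (y * x⁻¹) * a⁻¹ = y * (y⁻¹ * (a * y * a⁻¹)) * (x⁻¹ * (a * x * a⁻¹))⁻¹ * x⁻¹ := by group
    _ = _ := by rw [e]; group

theorem exists_comm (h : FH F H) {a : A} (ha : a ∈ H) (h1 : a ≠ 1) {E : Subgroup A} (hE : E ≤ F)
    (hn : ∀ x ∈ E, a * x * a⁻¹ ∈ E) {e : A} (he : e ∈ E) : ∃ x ∈ E, x⁻¹ * (a * x * a⁻¹) = e := by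
  let φ : E → E := fun x => ⟨x.1⁻¹ * (a * x * a⁻¹), mul_mem (inv_mem x.2) (hn _ x.2)⟩
  obtain ⟨x, hx⟩ := Finite.injective_iff_surjective.1 (show Function.Injective φ from
    fun x y e => Subtype.ext (comm_inj h ha h1 (hE x.2) (hE y.2) (congrArg Subtype.val e))) ⟨e, he⟩
  exact ⟨x, x.2, congrArg Subtype.val hx⟩

theorem fh_coprime (h : FH F H) : (Nat.card H).Coprime (Nat.card F) := by
  have := h.normal
  refine Solv.Frob.coprime_card_of_fpf le_normalizer_of_normal fun a ha h1 => eq_bot_iff.2 ?_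
  rintro x ⟨hx, h2⟩
  exact h.fpf a ha h1 x hx (mul_inv_eq_iff_eq_mul.2 (mem_centralizer_singleton_iff.1 h2).symm)

/-- In an `F`-orbit, all points but one have trivial stabiliser in `H`. -/
theorem orbit (h : FH F H) {X : Type*} [MulAction A X] (x : X) :
    ∃ f₀ ∈ F, (∀ a ∈ H, ∀ f ∈ F, a • x = f • x → a • f₀ • x = f₀ • x) ∧
      ∀ f ∈ F, ∀ a ∈ H, a ≠ 1 → a • f • x = f • x → f • x = f₀ • x := by
  have hn := h.normal
  have := h.nil
  let H1 : Subgroup A :=
    { carrier := {a | a ∈ H ∧ ∃ f ∈ F, a • x = f • x}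
      one_mem' := ⟨one_mem _, 1, one_mem _, rfl⟩
      mul_mem' := by
        rintro a b ⟨ha, f, hf, e⟩ ⟨hb, g, hg, e'⟩
        refine ⟨mul_mem ha hb, a * g * a⁻¹ * f, mul_mem (hn.conj_mem _ hg a) hf, ?_⟩
        rw [mul_smul, e', mul_smul, ← e, ← mul_smul, ← mul_smul]; congr 1; group
      inv_mem' := by
        rintro a ⟨ha, f, hf, e⟩
        refine ⟨inv_mem ha, a⁻¹ * f⁻¹ * a, hn.conj_mem' _ (inv_mem hf) a, ?_⟩
        rw [mul_smul, e, mul_smul, inv_smul_smul] }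
  obtain ⟨f₀, h0, h1⟩ := Solv.glauberman_exists H1 F le_normalizer_of_normal
    ((fh_coprime h).coprime_dvd_left (card_dvd_of_le fun a ha => ha.1))
    (Or.inr inferInstance) x fun a ha => ha.2
  refine ⟨f₀, h0, fun a ha f hf e => h1 a ⟨ha, f, hf, e⟩, fun f hf a ha a1 e => ?_⟩
  have h2 : a • f₀ • x = f₀ • x := h1 a ⟨ha, a * f⁻¹ * a⁻¹ * f,
    mul_mem (hn.conj_mem _ (inv_mem hf) a) hf, by
      rw [mul_smul, ← e, ← mul_smul, ← mul_smul]; congr 1; group⟩
  have h3 : a⁻¹ • f₀ • x = f₀ • x := inv_smul_eq_iff.2 h2.symm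
  have hg : f * f₀⁻¹ ∈ F := mul_mem hf (inv_mem h0)
  obtain ⟨y, hy, e1⟩ := exists_comm h ha a1 (E := F ⊓ MulAction.stabilizer A (f₀ • x)) inf_le_left
    (fun y hy => ⟨hn.conj_mem _ hy.1 a, by
      change (a * y * a⁻¹) • f₀ • x = f₀ • x
      rw [mul_smul, mul_smul, h3, hy.2, h2]⟩)
    (e := (f * f₀⁻¹)⁻¹ * (a * (f * f₀⁻¹) * a⁻¹)) ⟨F.mul_mem (F.inv_mem hg) (hn.conj_mem _ hg a), by
      change _ • f₀ • x = f₀ • x
      rw [mul_smul, mul_smul, h3, mul_smul, mul_smul, inv_smul_smul, e, inv_smul_eq_iff, mul_smul,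
        inv_smul_smul]⟩
  have h4 : y • f₀ • x = f₀ • x := hy.2
  rwa [comm_inj h ha a1 hy.1 hg e1, mul_smul, inv_smul_smul] at h4

theorem not_cyclic (h : FH F H) (hH : H ≠ ⊥) {Z : Type u} [Group Z] [Finite Z] [Nontrivial Z]
    [MulDistribMulAction A Z] (hf : Fpf F (⊤ : Subgroup Z)) : ¬ IsCyclic Z := by
  intro hc
  have hn := h.normal
  obtain ⟨z, -, z1, hz⟩ := h.exists_fix inv_top hf top_ne_bot
  obtain ⟨⟨a, ha⟩, a1⟩ := ne_bot_iff_exists_ne_one.1 hH
  obtain ⟨g, hg⟩ := hc.exists_generator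
  refine z1 (hf z trivial fun e he => ?_)
  obtain ⟨x, -, rfl⟩ := exists_comm h ha (fun e => a1 (Subtype.ext e)) le_rfl
    (fun x hx => hn.conj_mem x hx a) he
  obtain ⟨k, hk⟩ := mem_zpowers_iff.1 (hg (x • g))
  obtain ⟨l, rfl⟩ := mem_zpowers_iff.1 (hg z)
  have e1 : x • g ^ l = (g ^ l) ^ k := by rw [smul_zpow', ← hk, zpow_comm]
  rw [mul_smul, mul_smul, mul_smul, hz _ (inv_mem ha), e1, smul_zpow', hz _ ha, ← e1, inv_smul_smul]

theorem cyclic_of_semireg {Z M : Type*} [Group Z] [Group M] [Finite Z] [Finite M] [Nontrivial M]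
    [MulDistribMulAction Z M] (hc : ∀ x y : Z, x * y = y * x)
    (h : ∀ (z : Z) (m : M), m ≠ 1 → z • m = m → z = 1) : IsCyclic Z := by
  have := finite_SD (A := Z) (G := M)
  have : IsMulCommutative (iA Z M).range := ⟨⟨by
    rintro ⟨_, a, rfl⟩ ⟨_, b, rfl⟩
    exact Subtype.ext (by change iA Z M a * iA Z M b = iA Z M b * iA Z M a
                          rw [← map_mul, hc, map_mul])⟩⟩
  have h1 : IsCyclic (iA Z M).range := by
    refine Solv.Frob.isCyclic_of_fpf_of_comm (K := (⊤ : Subgroup M).map (iG Z M))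
      (by rw [Ne, map_eq_bot_iff_of_injective _ iG_injective]; exact top_ne_bot)
      (inv_iff_le_normalizer.1 inv_top) ?_
    rintro _ ⟨a, rfl⟩ h1
    rw [eq_bot_iff]
    rintro _ ⟨⟨m, -, rfl⟩, hm⟩
    by_contra h2
    have h3 : iG Z M (a • m) = iG Z M m := by
      rw [iG_smul, ← mem_centralizer_singleton_iff.1 hm, mul_inv_cancel_right]
    exact h1 (by
      rw [h a m (fun e => h2 (by rw [e, map_one]; exact one_mem _)) (iG_injective h3), map_one])
  exact isCyclic_of_surjective _ (MonoidHom.ofInjective (iA_injective (A := Z) (G := M))).symm.surjective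

/-- Gluing the translates of an element supported on one component. -/
theorem glue (hF : Group.IsNilpotent F) {M Q X : Type*} [Group M] [Group Q] [Finite Q] [Finite X]
    [MulDistribMulAction Q M] [MulDistribMulAction A M] [MulDistribMulAction A Q] [MulAction A X]
    (hs : ∀ (a : A) (x : Q) (m : M), a • x • m = (a • x) • a • m) (hQ : Fpf F (⊤ : Subgroup Q))
    (W : X → M → Prop) (h1 : ∀ (a : A) L m, W L m → W (a • L) (a • m))
    (h2 : ∀ (y : Q) L m, W L m → W L (y • m)) (K : X) (x : Q)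
    (ha : ∀ f ∈ F, f • K ≠ K → ∀ m, W (f • K) m → x • m = m)
    (hb : ∀ f ∈ F, f • K = K → ∀ m, W K m → (f • x) • m = x • m) : ∀ m, W K m → x • m = m := by
  classical
  have := Fintype.ofFinite X
  have hs' : ∀ (a : A) (x : Q) (m : M), (a • x) • m = a • x • a⁻¹ • m := fun a x m => by
    rw [hs, smul_inv_smul]
  have h3 : ∀ (a f : A) m, W (f • K) m → W ((a⁻¹ * f) • K) (a⁻¹ • m) := fun a f m hm => by
    rw [mul_smul]; exact h1 _ _ _ hm
  have key : ∀ s : Finset X, ∃ y : Q, ∀ f ∈ F, ∀ m, W (f • K) m →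
      y • m = if f • K ∈ s then (f • x) • m else m := by
    intro s
    induction s using Finset.induction_on with
    | empty => exact ⟨1, by simp⟩
    | insert L s hL ih =>
    obtain ⟨y, hy⟩ := ih
    by_cases h4 : ∃ t ∈ F, t • K = L
    · obtain ⟨t, ht, rfl⟩ := h4
      refine ⟨(t • x) * y, fun f hf m hm => ?_⟩
      by_cases e : f • K = t • K
      · rw [mul_smul, hy f hf m hm, if_neg (e ▸ hL), if_pos (e ▸ Finset.mem_insert_self _ _),
          hs' f, ← hb (f⁻¹ * t) (mul_mem (inv_mem hf) ht) (by rw [mul_smul, ← e, inv_smul_smul])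
            _ (by simpa using h3 f f m hm), hs, smul_inv_smul, ← mul_smul f, mul_inv_cancel_left]
      · rw [mul_smul, hs', ha (t⁻¹ * f) (mul_mem (inv_mem ht) hf)
          (by rwa [mul_smul, Ne, inv_smul_eq_iff]) _ (h3 _ _ _ (h2 _ _ _ hm)), smul_inv_smul,
          hy f hf m hm]
        simp [e]
    · refine ⟨y, fun f hf m hm => ?_⟩
      rw [hy f hf m hm]
      simp [show f • K ≠ L from fun e => h4 ⟨f, hf, e⟩]
  obtain ⟨y, hy⟩ := key Finset.univ
  simp only [Finset.mem_univ, if_true] at hy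
  let D : Subgroup Q :=
    { carrier := {z | ∀ f ∈ F, ∀ m, W (f • K) m → z • m = m}
      one_mem' := fun _ _ _ _ => one_smul _ _
      mul_mem' := fun ha hb f hf m hm => by rw [mul_smul, hb f hf m hm, ha f hf m hm]
      inv_mem' := fun ha f hf m hm => inv_smul_eq_iff.2 (ha f hf m hm).symm }
  have h5 : y ∈ D := hQ.mem hF (N := D) (fun g z hz f hf m hm => by
      change ((g : A) • z) • m = m
      rw [hs', hz _ (mul_mem (inv_mem g.2) hf) _ (h3 _ _ _ hm), smul_inv_smul]) le_top trivial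
    fun g hg f hf m hm => by
      rw [mul_smul, inv_smul_eq_iff, hs', hy _ (mul_mem (inv_mem hg) hf) _ (h3 _ _ _ hm), hs,
        smul_inv_smul, ← mul_smul g, mul_inv_cancel_left, hy f hf m hm]
  intro m hm
  have h6 : W ((1 : A) • K) m := by rwa [one_smul]
  rw [← one_smul A x, ← hy 1 (one_mem _) m h6, h5 1 (one_mem _) m h6]

end Cfsg.Agent.KFr
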